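import Mathlib
import Cfsg.Agent.Lib.Helper5.PalPoly
import Cfsg.Agent.Lib.Helper5.SSOrder3
import Cfsg.Agent.Lib.Helper5.OrthCls7

set_option autoImplicit false

/-!
Exponents of irreducible polynomials over a finite field: an irreducible `φ ≠ X` of degree `d`
divides `X ^ (q ^ d - 1) - 1`, and a self-reciprocal irreducible `φ` of degree at least two has even
degree `2 d` and divides `X ^ (q ^ d + 1) - 1`.
-/

namespace Cfsg.Agent.Lib.Carve.Sp8A

open Polynomial
open Cfsg.Agent.Lib.Helper5.Pal Cfsg.Agent.Lib.Helper5.SSOrder Cfsg.Agent.Lib.Helper5.OrthCls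

universe u

variable {F : Type u} [Field F] [Fintype F]

theorem not_dvd_X_of_coeff_zero {φ : F[X]} (h0 : φ.coeff 0 ≠ 0) : ¬ (X : F[X]) ∣ φ := by
  intro h
  exact h0 (X_dvd_iff.1 h)

/-- an irreducible polynomial with nonzero constant term divides `X ^ (q ^ d - 1) - 1` -/
theorem dvd_X_pow_sub_one_of_irreducible {φ : F[X]} (hirr : Irreducible φ) (h0 : φ.coeff 0 ≠ 0) :
    φ ∣ X ^ (Fintype.card F ^ φ.natDegree - 1) - 1 := by
  have h1 : φ ∣ X ^ (Nat.card F) ^ φ.natDegree - X :=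
    hirr.natDegree_dvd_iff_dvd_X_pow_card_pow_sub_X.1 dvd_rfl
  rw [Nat.card_eq_fintype_card] at h1
  have hpos : 1 ≤ Fintype.card F ^ φ.natDegree := Nat.one_le_pow _ _ Fintype.card_pos
  have h2 : (X : F[X]) ^ Fintype.card F ^ φ.natDegree - X =
      X * (X ^ (Fintype.card F ^ φ.natDegree - 1) - 1) := by
    rw [mul_sub, mul_one, ← pow_succ', Nat.sub_add_cancel hpos]
  rw [h2] at h1
  rcases hirr.prime.dvd_or_dvd h1 with h3 | h3
  · exfalso
    have h4 : φ.natDegree ≤ 1 := by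
      have := natDegree_le_of_dvd h3 X_ne_zero
      rwa [natDegree_X] at this
    have h5 : 0 < φ.natDegree := hirr.natDegree_pos
    have h6 : φ.natDegree = 1 := by omega
    obtain ⟨g, hg⟩ := h3
    have h7 := congrArg (fun p : F[X] => p.coeff 0) hg
    simp only [coeff_X_zero, mul_coeff_zero] at h7
    have hg0 : g ≠ 0 := by
      rintro rfl
      rw [mul_zero] at hg
      exact X_ne_zero hg
    have h8 : g.natDegree = 0 := by
      have := congrArg natDegree hg
      rw [natDegree_X, natDegree_mul hirr.ne_zero hg0, h6] at this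
      omega
    have h9 : g.coeff 0 ≠ 0 := by
      intro h
      apply hg0
      rw [eq_C_of_natDegree_eq_zero h8, h, C_0]
    exact (mul_ne_zero h0 h9) h7.symm
  · exact h3

theorem root_pow_eq_of_dvd {φ : F[X]} [Fact (Irreducible φ)] (N : ℕ)
    (h : φ ∣ X ^ N - X) : (AdjoinRoot.root φ) ^ N = AdjoinRoot.root φ := by
  have h1 : AdjoinRoot.mk φ (X ^ N - X) = 0 := AdjoinRoot.mk_eq_zero.2 h
  rw [map_sub, map_pow, AdjoinRoot.mk_X, sub_eq_zero] at h1
  exact h1

theorem dvd_of_root_pow_eq {φ : F[X]} [Fact (Irreducible φ)] (N : ℕ)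
    (h : (AdjoinRoot.root φ) ^ N = AdjoinRoot.root φ) : φ ∣ X ^ N - X := by
  apply AdjoinRoot.mk_eq_zero.1
  rw [map_sub, map_pow, AdjoinRoot.mk_X, sub_eq_zero]
  exact h

/-- a self-reciprocal irreducible polynomial of degree at least two has even degree `2 d` and
divides `X ^ (q ^ d + 1) - 1` -/
theorem dvd_X_pow_add_one_of_selfrc [CharP F 2] {φ : F[X]} (hm : φ.Monic) (hirr : Irreducible φ)
    (h0 : φ.coeff 0 ≠ 0) (hrc : rc φ = φ) (hdeg : 2 ≤ φ.natDegree) :
    ∃ d : ℕ, 1 ≤ d ∧ φ.natDegree = 2 * d ∧ φ ∣ X ^ (Fintype.card F ^ d + 1) - 1 := by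
  haveI : Fact (Irreducible φ) := ⟨hirr⟩
  haveI : Fact (Nat.Prime 2) := ⟨Nat.prime_two⟩
  have hφ0 : φ ≠ 0 := hirr.ne_zero
  haveI : Module.Finite F (AdjoinRoot φ) := (AdjoinRoot.powerBasis hφ0).finite
  haveI : Finite (AdjoinRoot φ) := Module.finite_of_finite F
  obtain ⟨σ, hσ2, hσα, x0, hx0⟩ := exists_sigma φ hm hirr h0 hrc hdeg
  set α := AdjoinRoot.root φ with hα
  have hα0 : α ≠ 0 := Cfsg.Agent.Lib.Helper5.SpReal.root_ne_zero φ hm hirr h0
  set q := Fintype.card F with hq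
  have hcard : Nat.card F = q := Nat.card_eq_fintype_card
  -- σ as an algebra automorphism
  have hcomp : σ.comp σ = AlgHom.id F (AdjoinRoot φ) := by
    apply AlgHom.ext
    intro x
    exact hσ2 x
  set σe : AdjoinRoot φ ≃ₐ[F] AdjoinRoot φ := AlgEquiv.ofAlgHom σ σ hcomp hcomp with hσe
  obtain ⟨i, hi⟩ := FiniteField.exists_forall_apply_eq_pow F 2 (AdjoinRoot φ) σe
  rw [hcard] at hi
  have hi' : ∀ x, σ x = x ^ (q ^ i) := fun x => hi x
  -- the degree divides `2 i`
  have h2i : φ.natDegree ∣ 2 * i := by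
    apply hirr.natDegree_dvd_of_dvd_X_pow_card_pow_sub_X
    rw [hcard]
    apply dvd_of_root_pow_eq
    have := hσ2 α
    rw [hi' α, hi'] at this
    rw [← hα, two_mul, pow_add, pow_mul]
    exact this
  -- the degree does not divide `i`
  have hni : ¬ φ.natDegree ∣ i := by
    intro hdvd
    have h1 : φ ∣ X ^ (Nat.card F) ^ i - X :=
      hirr.natDegree_dvd_iff_dvd_X_pow_card_pow_sub_X.1 hdvd
    rw [hcard] at h1
    have h2 := root_pow_eq_of_dvd _ h1
    rw [← hα, ← hi' α] at h2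
    have h3 : σ = AlgHom.id F (AdjoinRoot φ) := by
      apply AdjoinRoot.algHom_ext
      rw [← hα, h2]
      rfl
    apply hx0
    rw [h3]
    rfl
  -- parity
  have heven : Even φ.natDegree := by
    by_contra hodd
    rw [Nat.not_even_iff_odd] at hodd
    have hc : Nat.Coprime φ.natDegree 2 := Nat.Coprime.symm (Nat.coprime_two_left.2 hodd)
    exact hni (hc.dvd_of_dvd_mul_left h2i)
  obtain ⟨d, hd⟩ := heven
  have hd2 : φ.natDegree = 2 * d := by omega
  have hd1 : 1 ≤ d := by omega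
  have hdi : d ∣ i := by
    rw [hd2] at h2i
    exact (Nat.mul_dvd_mul_iff_left (by norm_num)).1 h2i
  obtain ⟨j, rfl⟩ := hdi
  have hjodd : Odd j := by
    by_contra hj
    rw [Nat.not_odd_iff_even] at hj
    obtain ⟨l, rfl⟩ := hj
    apply hni
    rw [hd2]
    exact ⟨l, by ring⟩
  obtain ⟨l, rfl⟩ := hjodd
  -- `α ^ q ^ (2 d) = α`
  have hfull : α ^ (q ^ (2 * d)) = α := by
    have h1 : φ ∣ X ^ (Nat.card F) ^ φ.natDegree - X :=
      hirr.natDegree_dvd_iff_dvd_X_pow_card_pow_sub_X.1 dvd_rfl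
    rw [hcard, hd2] at h1
    exact root_pow_eq_of_dvd _ h1
  have hred : ∀ l : ℕ, α ^ (q ^ (d * (2 * l + 1))) = α ^ (q ^ d) := by
    intro l
    induction l with
    | zero => simp
    | succ l ih =>
      have e : d * (2 * (l + 1) + 1) = 2 * d + d * (2 * l + 1) := by ring
      rw [e, pow_add, pow_mul, hfull, ih]
  have hinv : α ^ (q ^ d) = α⁻¹ := by
    rw [← hred l, ← hi' α, hσα]
  refine ⟨d, hd1, hd2, ?_⟩
  apply AdjoinRoot.mk_eq_zero.1
  rw [map_sub, map_pow, AdjoinRoot.mk_X, map_one, sub_eq_zero, ← hα, pow_succ, hinv,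
    inv_mul_cancel₀ hα0]

end Cfsg.Agent.Lib.Carve.Sp8A
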