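import Mathlib
import Cfsg.Agent.Lib.Helper5.Sp8A.Irr

set_option autoImplicit false

/-!
Every monic self-reciprocal polynomial of degree `2 r ≤ 8` over a finite field of characteristic two
divides `(X ^ T - 1) ^ (2 ^ c)` where `T` is the least common multiple of numbers `q ^ d ∓ 1` attached to
a finite set of parts with `∑ d + c ≤ r`.
-/

namespace Cfsg.Agent.Lib.Carve.Sp8A

open Polynomial
open Cfsg.Agent.Lib.Helper5.Pal Cfsg.Agent.Lib.Helper5.SSOrder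

universe u

variable {F : Type u} [Field F]

/-- the exponent attached to a part -/
def val (q : ℕ) (p : ℕ × Bool) : ℕ := if p.2 then q ^ p.1 - 1 else q ^ p.1 + 1

/-- the bookkeeping predicate -/
def Good (q r : ℕ) (f : F[X]) : Prop :=
  ∃ (parts : Finset (ℕ × Bool)) (c : ℕ), (∀ p ∈ parts, 1 ≤ p.1) ∧
    f ∣ (X ^ (parts.lcm (val q)) - 1) ^ (2 ^ c) ∧ (∑ p ∈ parts, p.1) + c ≤ r ∧ c ≤ 3

/-- a ceiling of the binary logarithm, on `1 .. 8` -/
def cl (m : ℕ) : ℕ := if m ≤ 1 then 0 else if m ≤ 2 then 1 else if m ≤ 4 then 2 else 3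

theorem cl_le_three (m : ℕ) : cl m ≤ 3 := by
  unfold cl
  split_ifs <;> omega

theorem le_pow_cl {m : ℕ} (hm : m ≤ 8) : m ≤ 2 ^ cl m := by
  interval_cases m <;> simp [cl]

theorem cl_lt {m : ℕ} (hm : 1 ≤ m) : cl m + 1 ≤ m := by
  unfold cl
  split_ifs <;> omega

theorem cl_two_mul_le {k : ℕ} (hk : 1 ≤ k) : cl (2 * k) ≤ k := by
  unfold cl
  split_ifs <;> omega

theorem X_pow_sub_one_dvd {t T : ℕ} (h : t ∣ T) : (X ^ t - 1 : F[X]) ∣ X ^ T - 1 := by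
  obtain ⟨k, rfl⟩ := h
  rw [pow_mul]
  have := sub_dvd_pow_sub_pow (X ^ t : F[X]) 1 k
  rwa [one_pow] at this

theorem dvd_combine {ψ g : F[X]} {t T T' M c c' : ℕ} (hψ : ψ ∣ X ^ t - 1) (htT : t ∣ T)
    (hg : g ∣ (X ^ T' - 1) ^ (2 ^ c')) (hTT : T' ∣ T) (hcc : c' ≤ c) (hM : M ≤ 2 ^ c)
    (hcop : IsCoprime ψ g) : ψ ^ M * g ∣ (X ^ T - 1) ^ (2 ^ c) := by
  have h1 : ψ ^ M ∣ (X ^ T - 1) ^ (2 ^ c) :=
    (pow_dvd_pow_of_dvd (hψ.trans (X_pow_sub_one_dvd htT)) M).trans (pow_dvd_pow _ hM)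
  have h2 : g ∣ (X ^ T - 1) ^ (2 ^ c) :=
    hg.trans ((pow_dvd_pow_of_dvd (X_pow_sub_one_dvd hTT) _).trans
      (pow_dvd_pow _ (Nat.pow_le_pow_right (by norm_num) hcc)))
  exact (hcop.pow_left).mul_dvd h1 h2

theorem good_step {q r r' d m : ℕ} {ε : Bool} {f ψ g : F[X]}
    (hg : Good q r' g) (hf : f = ψ ^ m * g) (hcop : IsCoprime ψ g)
    (hψ : ψ ∣ X ^ (val q (d, ε)) - 1) (hd : 1 ≤ d) (hm : 1 ≤ m) (hm8 : m ≤ 8)
    (hr : r = r' + d * m) : Good q r f := by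
  classical
  obtain ⟨parts, c, hp1, hdiv, hbud, hc3⟩ := hg
  refine ⟨insert (d, ε) parts, max c (cl m), ?_, ?_, ?_, ?_⟩
  · intro p hp
    rcases Finset.mem_insert.1 hp with rfl | hp
    · exact hd
    · exact hp1 p hp
  · rw [hf]
    refine dvd_combine hψ ?_ hdiv ?_ (le_max_left _ _) ?_ hcop
    · exact Finset.dvd_lcm (Finset.mem_insert_self _ _)
    · exact Finset.lcm_mono (Finset.subset_insert _ _)
    · exact (le_pow_cl hm8).trans (Nat.pow_le_pow_right (by norm_num) (le_max_right _ _))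
  · have hsum : ∑ p ∈ insert (d, ε) parts, p.1 ≤ d + ∑ p ∈ parts, p.1 := by
      by_cases hmem : (d, ε) ∈ parts
      · rw [Finset.insert_eq_of_mem hmem]
        omega
      · rw [Finset.sum_insert hmem]
    have hcl := cl_lt hm
    obtain ⟨d', rfl⟩ : ∃ d', d = d' + 1 := ⟨d - 1, by omega⟩
    obtain ⟨m', rfl⟩ : ∃ m', m = m' + 1 := ⟨m - 1, by omega⟩
    have e : (d' + 1) * (m' + 1) = d' * m' + d' + m' + 1 := by ring
    rcases max_cases c (cl (m' + 1)) with ⟨h1, _⟩ | ⟨h1, _⟩ <;> rw [h1] <;> omega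
  · exact max_le hc3 (cl_le_three m)

theorem good_step_one {q r r' k : ℕ} {f g : F[X]}
    (hg : Good q r' g) (hf : f = (X - 1) ^ (2 * k) * g) (hcop : IsCoprime (X - 1 : F[X]) g)
    (hk : 1 ≤ k) (hk4 : k ≤ 4) (hr : r = r' + k) : Good q r f := by
  obtain ⟨parts, c, hp1, hdiv, hbud, hc3⟩ := hg
  refine ⟨parts, max c (cl (2 * k)), hp1, ?_, ?_, ?_⟩
  · rw [hf]
    have h1 : (X - 1 : F[X]) ∣ X ^ 1 - 1 := by rw [pow_one]
    exact dvd_combine h1 (one_dvd _) hdiv dvd_rfl (le_max_left _ _)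
      ((le_pow_cl (by omega)).trans (Nat.pow_le_pow_right (by norm_num) (le_max_right _ _))) hcop
  · have := cl_two_mul_le hk
    rcases max_cases c (cl (2 * k)) with ⟨h1, _⟩ | ⟨h1, _⟩ <;> rw [h1] <;> omega
  · exact max_le hc3 (cl_le_three _)

theorem good_one (q : ℕ) : Good q 0 (1 : F[X]) :=
  ⟨∅, 0, fun p hp => absurd hp (Finset.notMem_empty p), one_dvd _, by simp, by omega⟩

end Cfsg.Agent.Lib.Carve.Sp8A
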