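import Mathlib
import Cfsg.Agent.Lib.Helper5.Sp8A.Peel

set_option autoImplicit false

/-!
The arithmetic step: the exponent `2 ^ c * lcm (q ^ d ∓ 1)` coming out of the bookkeeping divides
one of twelve explicit numbers.
-/

namespace Cfsg.Agent.Lib.Carve.Sp8A

/-- the twelve maximal element orders of `Sp₈(q)`, `q` even -/
def L8 (q : ℕ) : Finset ℕ :=
  {8 * (q + 1), 8 * (q - 1), 4 * (q ^ 2 + 1), 4 * (q ^ 2 - 1), 2 * (q ^ 3 + 1), 2 * (q ^ 3 - 1),
    2 * (q ^ 2 + 1) * (q + 1), 2 * (q ^ 2 + 1) * (q - 1), q ^ 4 + 1, q ^ 4 - 1,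
    (q ^ 3 + 1) * (q - 1), (q ^ 3 - 1) * (q + 1)}

section sums

variable {parts : Finset (ℕ × Bool)}

theorem part_le {a : ℕ × Bool} (ha : a ∈ parts) : a.1 ≤ ∑ p ∈ parts, p.1 :=
  Finset.single_le_sum (f := fun p : ℕ × Bool => p.1) (fun _ _ => Nat.zero_le _) ha

theorem two_parts {a b : ℕ × Bool} (ha : a ∈ parts) (hb : b ∈ parts) (hab : a ≠ b) :
    a.1 + b.1 ≤ ∑ p ∈ parts, p.1 := by
  classical
  rw [← Finset.add_sum_erase parts (fun p : ℕ × Bool => p.1) ha]
  have hb' : b ∈ parts.erase a := Finset.mem_erase.2 ⟨fun h => hab h.symm, hb⟩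
  have := part_le hb'
  omega

theorem three_parts {a b c : ℕ × Bool} (ha : a ∈ parts) (hb : b ∈ parts) (hc : c ∈ parts)
    (hab : a ≠ b) (hac : a ≠ c) (hbc : b ≠ c) : a.1 + b.1 + c.1 ≤ ∑ p ∈ parts, p.1 := by
  classical
  rw [← Finset.add_sum_erase parts (fun p : ℕ × Bool => p.1) ha]
  have hb' : b ∈ parts.erase a := Finset.mem_erase.2 ⟨fun h => hab h.symm, hb⟩
  have hc' : c ∈ parts.erase a := Finset.mem_erase.2 ⟨fun h => hac h.symm, hc⟩
  have := two_parts hb' hc' hbc
  omega

end sums

section dvd

variable {q : ℕ}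

theorem d_sub_one (n : ℕ) : q - 1 ∣ q ^ n - 1 := by
  have := Nat.sub_dvd_pow_sub_pow q 1 n
  rwa [one_pow] at this

theorem d_add_one_three : q + 1 ∣ q ^ 3 + 1 := by
  have := Odd.nat_add_dvd_pow_add_pow q 1 (n := 3) (by decide)
  rwa [one_pow] at this

theorem d_sq_sub : q ^ 2 - 1 = (q + 1) * (q - 1) := by
  have := Nat.sq_sub_sq q 1
  rwa [one_pow] at this

theorem d_four_sub : q ^ 4 - 1 = (q ^ 2 + 1) * (q ^ 2 - 1) := by
  have := Nat.sq_sub_sq (q ^ 2) 1
  rw [one_pow, ← pow_mul] at this
  exact this

theorem d_add_one_sq : q + 1 ∣ q ^ 2 - 1 := by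
  rw [d_sq_sub]
  exact dvd_mul_right _ _

theorem d_sq_sub_four : q ^ 2 - 1 ∣ q ^ 4 - 1 := by
  rw [d_four_sub]
  exact dvd_mul_left _ _

theorem d_sq_add_four : q ^ 2 + 1 ∣ q ^ 4 - 1 := by
  rw [d_four_sub]
  exact dvd_mul_right _ _

/-- parts of rank at most two other than `(2, false)` divide `q ^ 2 - 1` -/
theorem val_dvd_sq_sub {p : ℕ × Bool} (h1 : 1 ≤ p.1) (h2 : p.1 ≤ 2) (hne : p ≠ (2, false)) :
    val q p ∣ q ^ 2 - 1 := by
  obtain ⟨d, ε⟩ := p
  simp only at h1 h2
  interval_cases d <;> cases ε <;> simp only [val, pow_one] at *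
  · exact d_add_one_sq
  · exact d_sub_one 2
  · exact absurd rfl hne
  · exact dvd_rfl

/-- parts of rank at most four other than `(4, false)`, `(3, _)` divide `q ^ 4 - 1` -/
theorem val_dvd_four_sub {p : ℕ × Bool} (h1 : 1 ≤ p.1) (h2 : p.1 ≤ 4) (hne4 : p ≠ (4, false))
    (hne3 : p ≠ (3, true)) (hne3' : p ≠ (3, false)) : val q p ∣ q ^ 4 - 1 := by
  obtain ⟨d, ε⟩ := p
  simp only at h1 h2
  interval_cases d <;> cases ε <;> simp only [val, pow_one] at *
  · exact d_add_one_sq.trans d_sq_sub_four
  · exact d_sub_one 4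
  · exact d_sq_add_four
  · exact d_sq_sub_four
  · exact absurd rfl hne3'
  · exact absurd rfl hne3
  · exact absurd rfl hne4
  · exact dvd_rfl

theorem eq_of_rank_one {p : ℕ × Bool} (h : p.1 = 1) : p = (1, true) ∨ p = (1, false) := by
  obtain ⟨d, ε⟩ := p
  simp only at h
  subst h
  cases ε
  · right; rfl
  · left; rfl

end dvd

theorem exists_L8 {q : ℕ} (parts : Finset (ℕ × Bool)) (c : ℕ)
    (h1 : ∀ p ∈ parts, 1 ≤ p.1) (hb : (∑ p ∈ parts, p.1) + c ≤ 4) (hc : c ≤ 3) :
    ∃ N ∈ L8 q, 2 ^ c * parts.lcm (val q) ∣ N := by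
  interval_cases c
  · -- c = 0
    rw [pow_zero, one_mul]
    by_cases h4 : ((4, false) : ℕ × Bool) ∈ parts
    · refine ⟨q ^ 4 + 1, by simp [L8], Finset.lcm_dvd ?_⟩
      intro p hp
      have : p = (4, false) := by
        by_contra hne
        have := two_parts h4 hp (Ne.symm hne)
        have := h1 p hp
        omega
      rw [this]
      simp [val]
    by_cases h3t : ((3, true) : ℕ × Bool) ∈ parts
    · refine ⟨(q ^ 3 - 1) * (q + 1), by simp [L8], Finset.lcm_dvd ?_⟩
      intro p hp
      by_cases hp3 : p = (3, true)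
      · rw [hp3]
        simp only [val, if_true]
        exact dvd_mul_right _ _
      · have := two_parts h3t hp (Ne.symm hp3)
        have := h1 p hp
        rcases eq_of_rank_one (p := p) (by omega) with rfl | rfl
        · simp only [val, if_true, pow_one]
          exact (d_sub_one 3).trans (dvd_mul_right _ _)
        · simp only [val, pow_one]
          exact dvd_mul_left _ _
    by_cases h3f : ((3, false) : ℕ × Bool) ∈ parts
    · refine ⟨(q ^ 3 + 1) * (q - 1), by simp [L8], Finset.lcm_dvd ?_⟩
      intro p hp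
      by_cases hp3 : p = (3, false)
      · rw [hp3]
        simp only [val]
        exact dvd_mul_right _ _
      · have := two_parts h3f hp (Ne.symm hp3)
        have := h1 p hp
        rcases eq_of_rank_one (p := p) (by omega) with rfl | rfl
        · simp only [val, if_true, pow_one]
          exact dvd_mul_left _ _
        · simp only [val, pow_one]
          exact d_add_one_three.trans (dvd_mul_right _ _)
    · refine ⟨q ^ 4 - 1, by simp [L8], Finset.lcm_dvd ?_⟩
      intro p hp
      have := part_le hp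
      exact val_dvd_four_sub (h1 p hp) (by omega) (fun h => h4 (h ▸ hp)) (fun h => h3t (h ▸ hp))
        (fun h => h3f (h ▸ hp))
  · -- c = 1
    rw [pow_one]
    by_cases h3t : ((3, true) : ℕ × Bool) ∈ parts
    · refine ⟨2 * (q ^ 3 - 1), by simp [L8], Nat.mul_dvd_mul_left 2 (Finset.lcm_dvd ?_)⟩
      intro p hp
      have : p = (3, true) := by
        by_contra hne
        have := two_parts h3t hp (Ne.symm hne)
        have := h1 p hp
        omega
      rw [this]
      simp [val]
    by_cases h3f : ((3, false) : ℕ × Bool) ∈ parts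
    · refine ⟨2 * (q ^ 3 + 1), by simp [L8], Nat.mul_dvd_mul_left 2 (Finset.lcm_dvd ?_)⟩
      intro p hp
      have : p = (3, false) := by
        by_contra hne
        have := two_parts h3f hp (Ne.symm hne)
        have := h1 p hp
        omega
      rw [this]
      simp [val]
    by_cases h2f : ((2, false) : ℕ × Bool) ∈ parts
    · by_cases h1t : ((1, true) : ℕ × Bool) ∈ parts
      · refine ⟨2 * (q ^ 2 + 1) * (q - 1), by simp [L8], ?_⟩
        rw [mul_assoc]
        refine Nat.mul_dvd_mul_left 2 (Finset.lcm_dvd ?_)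
        intro p hp
        by_cases hp2 : p = (2, false)
        · rw [hp2]
          simp only [val]
          exact dvd_mul_right _ _
        by_cases hp1 : p = (1, true)
        · rw [hp1]
          simp only [val, if_true, pow_one]
          exact dvd_mul_left _ _
        · exfalso
          have := three_parts h2f h1t hp (by simp) (Ne.symm hp2) (Ne.symm hp1)
          have := h1 p hp
          simp only at *
          omega
      · refine ⟨2 * (q ^ 2 + 1) * (q + 1), by simp [L8], ?_⟩
        rw [mul_assoc]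
        refine Nat.mul_dvd_mul_left 2 (Finset.lcm_dvd ?_)
        intro p hp
        by_cases hp2 : p = (2, false)
        · rw [hp2]
          simp only [val]
          exact dvd_mul_right _ _
        · have := two_parts h2f hp (Ne.symm hp2)
          have := h1 p hp
          rcases eq_of_rank_one (p := p) (by omega) with rfl | rfl
          · exact absurd hp h1t
          · simp only [val, pow_one]
            exact dvd_mul_left _ _
    · refine ⟨4 * (q ^ 2 - 1), by simp [L8], ?_⟩
      have e : 4 * (q ^ 2 - 1) = 2 * (2 * (q ^ 2 - 1)) := by ring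
      rw [e]
      refine Nat.mul_dvd_mul_left 2 (dvd_mul_of_dvd_right (Finset.lcm_dvd ?_) 2)
      intro p hp
      have hle := part_le hp
      have hp3 : p.1 ≠ 3 := by
        intro h
        obtain ⟨d, ε⟩ := p
        simp only at h
        subst h
        cases ε
        · exact h3f hp
        · exact h3t hp
      exact val_dvd_sq_sub (h1 p hp) (by omega) (fun h => h2f (h ▸ hp))
  · -- c = 2
    by_cases h2f : ((2, false) : ℕ × Bool) ∈ parts
    · refine ⟨4 * (q ^ 2 + 1), by simp [L8], Nat.mul_dvd_mul_left _ (Finset.lcm_dvd ?_)⟩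
      intro p hp
      have : p = (2, false) := by
        by_contra hne
        have := two_parts h2f hp (Ne.symm hne)
        have := h1 p hp
        omega
      rw [this]
      simp [val]
    · refine ⟨4 * (q ^ 2 - 1), by simp [L8], Nat.mul_dvd_mul_left _ (Finset.lcm_dvd ?_)⟩
      intro p hp
      have hle := part_le hp
      exact val_dvd_sq_sub (h1 p hp) (by omega) (fun h => h2f (h ▸ hp))
  · -- c = 3
    by_cases h1t : ((1, true) : ℕ × Bool) ∈ parts
    · refine ⟨8 * (q - 1), by simp [L8], Nat.mul_dvd_mul_left _ (Finset.lcm_dvd ?_)⟩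
      intro p hp
      have : p = (1, true) := by
        by_contra hne
        have := two_parts h1t hp (Ne.symm hne)
        have := h1 p hp
        omega
      rw [this]
      simp [val]
    · refine ⟨8 * (q + 1), by simp [L8], Nat.mul_dvd_mul_left _ (Finset.lcm_dvd ?_)⟩
      intro p hp
      have hle := part_le hp
      have := h1 p hp
      rcases eq_of_rank_one (p := p) (by omega) with rfl | rfl
      · exact absurd hp h1t
      · simp [val]

end Cfsg.Agent.Lib.Carve.Sp8A
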