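import Mathlib
import Cfsg.Agent.Lib.Helper5.Sp8A.Peel

set_option autoImplicit false

/-!
The induction: every monic self-reciprocal polynomial of degree `2 r`, `r ≤ 4`, over a finite field
of characteristic two is `Good`.
-/

namespace Cfsg.Agent.Lib.Carve.Sp8A

open Polynomial
open Cfsg.Agent.Lib.Helper5.Pal Cfsg.Agent.Lib.Helper5.SSOrder

universe u

variable {F : Type u} [Field F]

theorem reverse_pow'' (f : F[X]) (n : ℕ) : (f ^ n).reverse = f.reverse ^ n := by
  induction n with
  | zero => rw [pow_zero, pow_zero, ← C_1, reverse_C]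
  | succ n ih => rw [pow_succ, pow_succ, reverse_mul_of_domain, ih]

theorem reverse_X_sub_one' [CharP F 2] : (X - 1 : F[X]).reverse = X - 1 := by
  have h1 : (X - 1 : F[X]) = X + C (-1) := by rw [C_neg, C_1, sub_eq_add_neg]
  have hX : (X : F[X]).reverse = 1 := by
    have := reverse_X_mul (1 : F[X])
    rw [mul_one] at this
    rw [this, ← C_1, reverse_C]
  rw [h1, reverse_add_C, hX, natDegree_X, C_neg, C_1, CharTwo.neg_eq]
  ring

theorem coeff_zero_of_pal {f : F[X]} (hm : f.Monic) (hrev : f.reverse = f) : f.coeff 0 = 1 := by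
  rw [← hrev, coeff_zero_reverse, hm.leadingCoeff]

theorem even_natDegree_of_pal [CharP F 2] {g : F[X]} (hrev : g.reverse = g)
    (h1 : g.eval 1 ≠ 0) : Even g.natDegree := by
  by_contra hodd
  rw [Nat.not_even_iff_odd] at hodd
  obtain ⟨k, hk⟩ := hodd
  have hg0 : g ≠ 0 := by
    rintro rfl
    exact h1 eval_zero
  have hX1 : (X - 1 : F[X]) ≠ 0 := by
    have := X_sub_C_ne_zero (1 : F)
    rwa [C_1] at this
  set h : F[X] := (X - 1) * g with hh
  have hdeg : h.natDegree = 2 * (k + 1) := by
    rw [hh, natDegree_mul hX1 hg0]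
    have : (X - 1 : F[X]).natDegree = 1 := by
      have := natDegree_X_sub_C (1 : F)
      rwa [C_1] at this
    rw [this, hk]
    ring
  have hhrev : h.reverse = h := by
    rw [hh, reverse_mul_of_domain, reverse_X_sub_one', hrev]
  have hroot : h.eval 1 = 0 := by
    rw [hh, eval_mul, eval_sub, eval_X, eval_one, sub_self, zero_mul]
  have h2 := sq_dvd_of_root hdeg hhrev (c := 1) (by ring) hroot
  rw [C_1, pow_two, hh] at h2
  have h3 : (X - 1 : F[X]) ∣ g := (mul_dvd_mul_iff_left hX1).1 h2
  apply h1
  obtain ⟨w, rfl⟩ := h3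
  rw [eval_mul, eval_sub, eval_X, eval_one, sub_self, zero_mul]

section main

variable [Fintype F] [CharP F 2]

theorem good_of_pal : ∀ r : ℕ, r ≤ 4 → ∀ f : F[X], f.Monic → f.natDegree = 2 * r →
    f.reverse = f → Good (Fintype.card F) r f := by
  intro r
  induction r using Nat.strong_induction_on with
  | _ r ih =>
  intro hr4 f hm hdeg hrev
  rcases Nat.eq_zero_or_pos r with rfl | hrpos
  · have : f = 1 := eq_one_of_monic_natDegree_zero hm (by simpa using hdeg)
    rw [this]
    exact good_one _
  have hf0 : f ≠ 0 := hm.ne_zero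
  have hc0 : f.coeff 0 = 1 := coeff_zero_of_pal hm hrev
  have hX1 : (X - 1 : F[X]) ≠ 0 := by
    have := X_sub_C_ne_zero (1 : F)
    rwa [C_1] at this
  have hX1m : (X - 1 : F[X]).Monic := by
    have := monic_X_sub_C (1 : F)
    rwa [C_1] at this
  have hX1d : (X - 1 : F[X]).natDegree = 1 := by
    have := natDegree_X_sub_C (1 : F)
    rwa [C_1] at this
  have hX1i : Irreducible (X - 1 : F[X]) := by
    have := irreducible_X_sub_C (1 : F)
    rwa [C_1] at this
  by_cases h1 : f.eval 1 = 0
  · -- the factor `X - 1`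
    obtain ⟨g, hfg, hndvd⟩ := exists_eq_pow_rootMultiplicity_mul_and_not_dvd f hf0 1
    have hMpos : 0 < f.rootMultiplicity 1 := (rootMultiplicity_pos hf0).2 h1
    set M := f.rootMultiplicity 1 with hM
    rw [C_1] at hfg hndvd
    have hg1 : g.eval 1 ≠ 0 := by
      intro h
      apply hndvd
      have := dvd_iff_isRoot.2 (show IsRoot g 1 from h)
      rwa [C_1] at this
    have hu : ((X - 1 : F[X]) ^ M).reverse = (X - 1) ^ M := by
      rw [reverse_pow'', reverse_X_sub_one']
    have hgrev : g.reverse = g := reverse_quot (pow_ne_zero _ hX1) hrev hu hfg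
    have hgm : g.Monic := Monic.of_mul_monic_left (hX1m.pow M) (hfg ▸ hm)
    have hdegf : f.natDegree = M + g.natDegree := by
      conv_lhs => rw [hfg]
      rw [Monic.natDegree_mul (hX1m.pow M) hgm, Monic.natDegree_pow hX1m, hX1d, mul_one]
    obtain ⟨n, hn⟩ := even_natDegree_of_pal hgrev hg1
    obtain ⟨k, hk⟩ : ∃ k, M = 2 * k := ⟨r - n, by omega⟩
    have ihg := ih n (by omega) (by omega) g hgm (by omega) hgrev
    refine good_step_one (k := k) ihg ?_ ((hX1i.coprime_iff_not_dvd).2 hndvd) (by omega) (by omega)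
      (by omega)
    rw [← hk]
    exact hfg
  · -- an irreducible factor other than `X - 1`
    have hnu : ¬ IsUnit f := by
      apply not_isUnit_of_natDegree_pos
      omega
    obtain ⟨φ, hφm, hφirr, hφf⟩ := exists_monic_irreducible_factor f hnu
    have hφ0 : φ.coeff 0 ≠ 0 := by
      obtain ⟨w, hw⟩ := hφf
      intro h
      have := congrArg (fun p : F[X] => p.coeff 0) hw
      simp only [mul_coeff_zero, hc0, h, zero_mul] at this
      exact one_ne_zero this
    have hφ1 : φ.eval 1 ≠ 0 := by
      intro h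
      apply h1
      obtain ⟨w, rfl⟩ := hφf
      rw [eval_mul, h, zero_mul]
    obtain ⟨m, g, hndvd, hfg⟩ := WfDvdMonoid.max_power_factor hf0 hφirr
    have hmpos : 1 ≤ m := by
      by_contra hcon
      have : m = 0 := by omega
      rw [this, pow_zero, one_mul] at hfg
      exact hndvd (hfg ▸ hφf)
    have hg1 : g.eval 1 ≠ 0 := by
      intro h
      apply h1
      rw [hfg, eval_mul, h, mul_zero]
    have hdpos : 0 < φ.natDegree := hφirr.natDegree_pos
    by_cases hrc : rc φ = φ
    · -- a self-reciprocal irreducible factor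
      have hφrev : φ.reverse = φ := reverse_eq_of_rc_eq hφ0 hrc hφ1
      obtain ⟨k0, hk0⟩ := even_natDegree_of_pal hφrev hφ1
      have hdeg2 : 2 ≤ φ.natDegree := by omega
      obtain ⟨d, hd1, hd2, hdvd⟩ := dvd_X_pow_add_one_of_selfrc hφm hφirr hφ0 hrc hdeg2
      have hgrev : g.reverse = g :=
        reverse_quot (pow_ne_zero _ hφirr.ne_zero) hrev (by rw [reverse_pow'', hφrev]) hfg
      have hgm : g.Monic := Monic.of_mul_monic_left (hφm.pow m) (hfg ▸ hm)
      have hdegf : f.natDegree = 2 * (d * m) + g.natDegree := by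
        conv_lhs => rw [hfg]
        rw [Monic.natDegree_mul (hφm.pow m) hgm, Monic.natDegree_pow hφm, hd2]
        ring
      obtain ⟨n, hn⟩ := even_natDegree_of_pal hgrev hg1
      have hdm : m ≤ d * m := Nat.le_mul_of_pos_left m (by omega)
      have hdm1 : 1 ≤ d * m := by omega
      have ihg := ih n (by omega) (by omega) g hgm (by omega) hgrev
      refine good_step (ε := false) (d := d) ihg hfg ((hφirr.coprime_iff_not_dvd).2 hndvd) ?_ hd1
        hmpos (by omega) (by omega)
      simpa [val] using hdvd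
    · -- a pair of reciprocal irreducible factors
      have hψ0 : (rc φ).coeff 0 ≠ 0 := by
        rw [coeff_zero_rc hφm]
        exact inv_ne_zero hφ0
      have hrcirr : Irreducible (rc φ) := irreducible_rc hφirr hφ0
      have hrcm : (rc φ).Monic := rc_monic hφ0
      have hrcd : (rc φ).natDegree = φ.natDegree := rc_natDegree hφ0
      have hcop : IsCoprime φ (rc φ) := isCoprime_rc hφirr hφm hφ0 hrc
      have hpow0 : (φ ^ m).coeff 0 ≠ 0 := by
        rw [coeff_zero_eq_eval_zero, eval_pow, ← coeff_zero_eq_eval_zero]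
        exact pow_ne_zero _ hφ0
      have h2 : (rc φ) ^ m ∣ f := by
        have := rc_dvd_of_dvd hpow0 hrev ⟨g, hfg⟩
        rwa [rc_pow] at this
      have h3 : (rc φ) ^ m ∣ g := by
        rw [hfg] at h2
        exact (hcop.symm.pow).dvd_of_dvd_mul_left h2
      obtain ⟨g', hg'⟩ := h3
      have hfg' : f = (φ * rc φ) ^ m * g' := by
        rw [hfg, hg', mul_pow]
        ring
      have hψm : (φ * rc φ).Monic := hφm.mul hrcm
      have hψrev : ((φ * rc φ) ^ m).reverse = (φ * rc φ) ^ m := by
        rw [reverse_pow'', reverse_mul_rc hφ0]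
      have hg'rev : g'.reverse = g' :=
        reverse_quot (pow_ne_zero _ hψm.ne_zero) hrev hψrev hfg'
      have hg'm : g'.Monic := Monic.of_mul_monic_left (hψm.pow m) (hfg' ▸ hm)
      have hn1 : ¬ φ ∣ g' := fun h => hndvd (hg' ▸ dvd_mul_of_dvd_right h _)
      have hn2 : ¬ rc φ ∣ g' := by
        intro h
        have := rc_dvd_of_dvd hψ0 hg'rev h
        rw [rc_rc hφm hφ0] at this
        exact hn1 this
      have hcop' : IsCoprime (φ * rc φ) g' :=
        IsCoprime.mul_left ((hφirr.coprime_iff_not_dvd).2 hn1)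
          ((hrcirr.coprime_iff_not_dvd).2 hn2)
      have hg'1 : g'.eval 1 ≠ 0 := by
        intro h
        apply h1
        rw [hfg', eval_mul, h, mul_zero]
      set d := φ.natDegree with hd
      have hdegf : f.natDegree = 2 * (d * m) + g'.natDegree := by
        conv_lhs => rw [hfg']
        rw [Monic.natDegree_mul (hψm.pow m) hg'm, Monic.natDegree_pow hψm,
          Monic.natDegree_mul hφm hrcm, hrcd]
        ring
      obtain ⟨n, hn⟩ := even_natDegree_of_pal hg'rev hg'1
      have hdm : m ≤ d * m := Nat.le_mul_of_pos_left m (by omega)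
      have hdm1 : 1 ≤ d * m := by omega
      have ihg := ih n (by omega) (by omega) g' hg'm (by omega) hg'rev
      refine good_step (ε := true) (d := d) ihg hfg' hcop' ?_ (by omega) hmpos (by omega)
        (by omega)
      have e1 : φ ∣ X ^ (Fintype.card F ^ d - 1) - 1 :=
        dvd_X_pow_sub_one_of_irreducible hφirr hφ0
      have e2 : rc φ ∣ X ^ (Fintype.card F ^ d - 1) - 1 := by
        have := dvd_X_pow_sub_one_of_irreducible hrcirr hψ0
        rwa [hrcd] at this
      have : val (Fintype.card F) (d, true) = Fintype.card F ^ d - 1 := by simp [val]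
      rw [this]
      exact hcop.mul_dvd e1 e2

end main

end Cfsg.Agent.Lib.Carve.Sp8A
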