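import Mathlib
import Cfsg.Agent.Lib.Helper5.Sp8A.Peel2
import Cfsg.Agent.Lib.Helper5.Sp8A.Arith
import Cfsg.Agent.Lib.Helper5.SpReal3

set_option autoImplicit false

/-!
Every element of `Sp₈(q)`, `q` even, has order dividing one of the twelve numbers of `L8 q`.
-/

namespace Cfsg.Agent.Lib.Carve.Sp8A

open Polynomial

universe u

variable {F : Type u} [Field F] [Fintype F] [CharP F 2]

/-- a monic self-reciprocal polynomial of degree eight divides `X ^ N - 1` for some `N ∈ L8 q` -/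
theorem exists_exponent_poly (f : F[X]) (hm : f.Monic) (hdeg : f.natDegree = 8)
    (hrev : f.reverse = f) : ∃ N ∈ L8 (Fintype.card F), f ∣ X ^ N - 1 := by
  obtain ⟨parts, c, hp1, hdiv, hbud, hc3⟩ := good_of_pal 4 le_rfl f hm (by rw [hdeg]) hrev
  obtain ⟨N, hN, hdvd⟩ := exists_L8 (q := Fintype.card F) parts c hp1 hbud hc3
  refine ⟨N, hN, hdiv.trans ?_⟩
  have e : ((X : F[X]) ^ (parts.lcm (val (Fintype.card F))) - 1) ^ (2 ^ c) =
      X ^ (2 ^ c * parts.lcm (val (Fintype.card F))) - 1 := by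
    rw [sub_pow_char_pow, one_pow, ← pow_mul, mul_comm]
  rw [e]
  exact X_pow_sub_one_dvd hdvd

theorem exists_exponent (g : Matrix.symplecticGroup (Fin 4) F) :
    ∃ N ∈ L8 (Fintype.card F), g ^ N = 1 := by
  classical
  set A : Matrix (Fin 4 ⊕ Fin 4) (Fin 4 ⊕ Fin 4) F := g.1 with hA
  have hm : A.charpoly.Monic := Matrix.charpoly_monic A
  have hdeg : A.charpoly.natDegree = 8 := by
    rw [Matrix.charpoly_natDegree_eq_dim, Fintype.card_sum, Fintype.card_fin]
  have hrev : A.charpoly.reverse = A.charpoly :=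
    Cfsg.Agent.Lib.Helper5.SpReal.reverse_charpoly_of_mem_symplectic A g.2
  obtain ⟨N, hN, ⟨w, hw⟩⟩ := exists_exponent_poly A.charpoly hm hdeg hrev
  refine ⟨N, hN, ?_⟩
  have h1 := congrArg (aeval A) hw
  rw [map_mul, Matrix.aeval_self_charpoly, zero_mul, map_sub, map_pow, aeval_X, map_one,
    sub_eq_zero] at h1
  apply Subtype.ext
  rw [SubmonoidClass.coe_pow]
  exact h1

end Cfsg.Agent.Lib.Carve.Sp8A
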